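import Groth.Agent.H13AlgSp.ZMT.Glue
import Groth.Agent.H12AlgSp.SubExt.Main
import Groth.Agent.H12AlgSp.BCMod.PushQcqs
import Groth.Agent.H12AlgSp.Proper
import Groth.Agent.H13AlgSp.AffineLocal

/-!
Finite subalgebras of the functions of an integral space over an atlas, containing given functions and compatible
with the two projections of the relation.
-/

set_option autoImplicit false
set_option backward.isDefEq.respectTransparency false
set_option linter.style.haveILetI false

universe u

open CategoryTheory CategoryTheory.Limits AlgebraicGeometry Opposite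
open AlgSp Groth.Agent.H12AlgSp Groth.Agent.H12AlgSp.BCMod Groth.Agent.H12AlgSp.SubExt

namespace Groth.Agent.H13AlgSp.ZMT

variable {S : Scheme.{u}}

/-- The map to an affine scheme given on functions. -/
noncomputable def homToAffine {V T : Scheme.{u}} [IsAffine T] (ψ : Γ(T, ⊤) ⟶ Γ(V, ⊤)) : V ⟶ T :=
  V.toSpecΓ ≫ Spec.map ψ ≫ T.isoSpec.inv

theorem homToAffine_appTop {V T : Scheme.{u}} [IsAffine T] (ψ : Γ(T, ⊤) ⟶ Γ(V, ⊤)) :
    (homToAffine ψ).appTop = ψ := by
  have h : (T.isoSpec.inv).appTop = (Scheme.ΓSpecIso Γ(T, ⊤)).inv := by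
    rw [← cancel_mono (Scheme.ΓSpecIso Γ(T, ⊤)).hom, Iso.inv_hom_id, ← Scheme.toSpecΓ_appTop]
    simp [Scheme.isoSpec]
  simp [homToAffine, h]

variable {X Y : Sp S} {f : Y ⟶ X} (hr : Representable f)

/-- A section of the direct image of the functions as a function. -/
def valPush {E : EtOver X} (x : (pm ((pushModEt hr).obj (unitModEt Y))).obj (op E)) :
    Γ(((EtOver.bc hr).obj E).obj.left.left, ⊤) :=
  (show ULift.{u + 1} Γ(((EtOver.bc hr).obj E).obj.left.left, ⊤) from x).down

theorem valPush_add {E : EtOver X} (x y : (pm ((pushModEt hr).obj (unitModEt Y))).obj (op E)) :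
    valPush hr (x + y) = valPush hr x + valPush hr y := rfl

theorem valPush_zero {E : EtOver X} : valPush hr (0 : (pm ((pushModEt hr).obj (unitModEt Y))).obj (op E)) = 0 := rfl

theorem valPush_smul {E : EtOver X} (a : (OEt X).obj.obj (op E))
    (x : (pm ((pushModEt hr).obj (unitModEt Y))).obj (op E)) :
    valPush hr (a • x) =
      (show Γ(((EtOver.bc hr).obj E).obj.left.left, ⊤) from (hr.snd E.obj.hom).left.appTop a.down) * valPush hr x :=
  congrArg ULift.down (ofPush_smul hr (unitModEt Y) a x)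

theorem valPush_map {Z E : EtOver X} (g : Z ⟶ E) (x : (pm ((pushModEt hr).obj (unitModEt Y))).obj (op E)) :
    valPush hr (ofSec (pm ((pushModEt hr).obj (unitModEt Y)))
      (res (pm ((pushModEt hr).obj (unitModEt Y))) g (Category.comp_id g) (toSec _ (𝟙 E) x))) =
      ((EtOver.bc hr).map g).hom.left.left.appTop (valPush hr x) :=
  congrArg ULift.down (ofPush_res hr (unitModEt Y) g (toSec _ (𝟙 E) x))

theorem exists_valPush {E : EtOver X} (c : Γ(((EtOver.bc hr).obj E).obj.left.left, ⊤)) :
    ∃ x : (pm ((pushModEt hr).obj (unitModEt Y))).obj (op E), valPush hr x = c := ⟨ULift.up c, rfl⟩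

theorem valPush_map' {Z E : EtOver X} (g : Z ⟶ E) (x : (pm ((pushModEt hr).obj (unitModEt Y))).obj (op E)) :
    valPush hr (E := Z) (((pm ((pushModEt hr).obj (unitModEt Y))).map g.op).hom x) =
      ((EtOver.bc hr).map g).hom.left.left.appTop (valPush hr x) := valPush_map hr g x

/-- A submodule containing the restrictions along one map contains those along another. -/
theorem valPush_map_mem {P : EtOver X → Prop} (K : SubOn ((pushModEt hr).obj (unitModEt Y)) P) {Z E : EtOver X}
    (hE : IsAffine E.obj.left.left) (hZ : IsAffine Z.obj.left.left) (pE : P E) (pZ : P Z) (g g' : Z ⟶ E)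
    (R : Subring Γ(((EtOver.bc hr).obj Z).obj.left.left, ⊤))
    (hsmul : ∀ a, (hr.snd Z.obj.hom).left.appTop a ∈ R)
    (h : ∀ z ∈ K.obj E hE pE, ((EtOver.bc hr).map g).hom.left.left.appTop (valPush hr z) ∈ R)
    (z : (pm ((pushModEt hr).obj (unitModEt Y))).obj (op E)) (hz : z ∈ K.obj E hE pE) :
    ((EtOver.bc hr).map g').hom.left.left.appTop (valPush hr z) ∈ R := by
  have h1 := K.gen g hZ hE pZ pE _ (K.res_mem g' hZ hE pZ pE z hz)
  rw [← valPush_map' hr g' z]
  generalize ((pm ((pushModEt hr).obj (unitModEt Y))).map g'.op).hom z = z' at h1 ⊢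
  induction h1 using Submodule.span_induction with
  | mem w hw =>
    obtain ⟨w, hwK, rfl⟩ := hw
    have e := h w hwK
    rw [← valPush_map' hr g w] at e
    exact e
  | zero => rw [valPush_zero]; exact R.zero_mem
  | add a b _ _ ha hb => rw [valPush_add]; exact R.add_mem ha hb
  | smul a z _ hz => rw [valPush_smul]; exact R.mul_mem (hsmul a.down) hz

variable [QuasiSeparatedSpace S] (hX : IsAlgSpace X) (hY : IsAlgSpace Y)
  (hXqc : IsQuasiCompactSp X) (hXqs : IsQuasiSeparatedSp X)

include hX hY hXqc hXqs in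
/-- A finite affine image over an affine atlas to which the relation lifts, containing given functions. -/
theorem exists_finite_image (hi : RepWith @IsIntegralHom f) (EU : EtOver X) [IsAffine EU.obj.left.left]
    (hps : RepWith @Surjective EU.obj.hom) (G : Finset Γ((hr.pullback EU.obj.hom).left, ⊤)) :
    ∃ (Q : Sp S) (νQ : Q ⟶ X) (f' : Y ⟶ Q) (N : Over S) (fU : hr.pullback EU.obj.hom ⟶ N)
      (q : (yon S).obj N ⟶ Q), IsAlgSpace Q ∧ IsAffine N.left ∧
        (∃ ν₀ : N.left ⟶ EU.obj.left.left, fU.left ≫ ν₀ = (hr.snd EU.obj.hom).left) ∧ f' ≫ νQ = f ∧ RepWith @IsFinite νQ ∧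
        RepWith @Etale q ∧ RepWith @Surjective q ∧ Function.Injective fU.left.appTop ∧
        (∀ g ∈ G, g ∈ Set.range fU.left.appTop) ∧
        IsPullback (hr.fst EU.obj.hom) ((yon S).map fU) f' q := by
  classical
  let U : Over S := EU.obj.left
  let U' : Over S := hr.pullback EU.obj.hom
  let π : U' ⟶ U := hr.snd EU.obj.hom
  have hπ : IsIntegralHom π.left := hi.property _ _ _ (hr.isPullback EU.obj.hom)
  haveI : IsAffineHom π.left := inferInstance
  haveI : IsAffine U'.left := isAffine_of_isAffineHom π.left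
  have haff : RepWith @IsAffineHom f := repWith_le (fun _ _ k (_ : IsIntegralHom k) => inferInstanceAs (IsAffineHom k)) hi
  haveI : (unitModEt Y).IsQuasicoherent :=
    (isQuasicoherent_iff_isBCEt _).2 (isBCMod_unit (Rsh := OEt Y) (A := etAff Y))
  haveI hq : ((pushModEt hr).obj (unitModEt Y)).IsQuasicoherent :=
    isQuasicoherent_pushModEt hr _
      (isQuasiCompactMor_of_repWith hY hX (repWith_le (fun _ _ k (_ : IsAffineHom k) => inferInstanceAs (QuasiCompact k)) haff))
      (isQuasiSeparatedMor_of_isSeparatedMor (isSeparatedMor_of_repWith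
        (repWith_le (fun _ _ k (_ : IsAffineHom k) => inferInstanceAs (IsSeparated k)) haff)))
  have hM : IsBCEt ((pushModEt hr).obj (unitModEt Y)) := (isQuasicoherent_iff_isBCEt _).1 hq
  choose x hx using fun g : G => exists_valPush hr (E := EU) g.1
  choose Nx hNx hxN using fun g : G => exists_mem hX hXqs hM hXqc EU inferInstance (x g)
  obtain ⟨K, hK, hKle⟩ := SubOn.exists_upper (Finset.univ : Finset G) Nx hNx
  let K₀ := K.obj EU inferInstance (inSet_univ EU)
  obtain ⟨T, hT⟩ := hK EU inferInstance (inSet_univ EU)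
  letI : Algebra Γ(U.left, ⊤) Γ(U'.left, ⊤) := π.left.appTop.hom.toAlgebra
  let B' : Subalgebra Γ(U.left, ⊤) Γ(U'.left, ⊤) :=
    Algebra.adjoin _ (show Set Γ(U'.left, ⊤) from (valPush hr (E := EU)) '' (T : Set _))
  have hmemK : ∀ y ∈ K₀, valPush hr y ∈ B' := by
    intro y hy
    rw [show K₀ = Submodule.span _ (T : Set _) from hT.symm] at hy
    induction hy using Submodule.span_induction with
    | mem z hz => exact Algebra.subset_adjoin ⟨z, hz, rfl⟩
    | zero => rw [valPush_zero]; exact B'.zero_mem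
    | add a b _ _ ha hb => rw [valPush_add]; exact B'.add_mem ha hb
    | smul a z _ hz => rw [valPush_smul]; exact B'.mul_mem (B'.algebraMap_mem a.down) hz
  have hGB : ∀ g ∈ G, g ∈ B' := fun g hg => by
    have h := hmemK _ (hKle ⟨g, hg⟩ (Finset.mem_univ _) _ _ _ (hxN ⟨g, hg⟩))
    rw [hx] at h
    exact h
  have hfinB : Module.Finite Γ(U.left, ⊤) B' := by
    have hint : π.left.appTop.hom.IsIntegral := IsIntegralHom.isIntegral_app π.left ⊤ (isAffineOpen_top _)
    have hfg : (Subalgebra.toSubmodule B').FG := fg_adjoin_of_finite ((Finset.finite_toSet T).image _) fun c _ => hint c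
    haveI := Module.Finite.iff_fg.2 hfg
    exact Module.Finite.equiv (Subalgebra.toSubmoduleEquiv B')
  -- the affine scheme of the subalgebra
  let ν₀ : Spec (CommRingCat.of B') ⟶ U.left :=
    homToAffine (CommRingCat.ofHom (algebraMap Γ(U.left, ⊤) B') ≫ (Scheme.ΓSpecIso (CommRingCat.of B')).inv)
  let N : Over S := Over.mk (ν₀ ≫ U.hom)
  haveI : IsAffine N.left := inferInstanceAs (IsAffine (Spec _))
  let ν : N ⟶ U := Over.homMk ν₀ rfl
  haveI : IsAffineHom ν.left := isAffineHom_of_isAffine _
  let fU₀ : U'.left ⟶ N.left :=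
    homToAffine ((Scheme.ΓSpecIso (CommRingCat.of B')).hom ≫ CommRingCat.ofHom B'.val.toRingHom)
  have hν₀ : ν₀.appTop = CommRingCat.ofHom (algebraMap Γ(U.left, ⊤) B') ≫ (Scheme.ΓSpecIso (CommRingCat.of B')).inv :=
    homToAffine_appTop _
  have hfU₀ : fU₀.appTop = (Scheme.ΓSpecIso (CommRingCat.of B')).hom ≫ CommRingCat.ofHom B'.val.toRingHom :=
    homToAffine_appTop _
  have hfν : fU₀ ≫ ν₀ = π.left := ext_of_isAffine (by
    rw [Scheme.Hom.comp_appTop, hν₀, hfU₀, Category.assoc, Iso.inv_hom_id_assoc]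
    rfl)
  let fU : U' ⟶ N := Over.homMk fU₀ (by
    change fU₀ ≫ ν₀ ≫ U.hom = U'.hom
    rw [reassoc_of% hfν]; exact Over.w π)
  have hfU : fU ≫ ν = π := Over.OverMorphism.ext hfν
  have hrange : ∀ c ∈ B', c ∈ Set.range fU.left.appTop := fun c hc =>
    ⟨(Scheme.ΓSpecIso (CommRingCat.of B')).inv ⟨c, hc⟩, by
      change fU₀.appTop _ = c
      rw [hfU₀, CommRingCat.comp_apply]
      exact congrArg Subtype.val ((Scheme.ΓSpecIso (CommRingCat.of B')).inv_hom_id_apply ⟨c, hc⟩)⟩
  have hinj : Function.Injective fU.left.appTop := by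
    change Function.Injective fU₀.appTop
    rw [hfU₀]
    exact (Subtype.val_injective : Function.Injective B'.val).comp
      (ConcreteCategory.bijective_of_isIso (Scheme.ΓSpecIso (CommRingCat.of B')).hom).1
  have hfinν : IsFinite ν.left := by
    refine (HasAffineProperty.iff_of_isAffine (P := @IsFinite)).2 ⟨inferInstance, ?_⟩
    change ν₀.appTop.hom.Finite
    rw [hν₀, CommRingCat.hom_comp]
    exact (RingHom.Finite.of_surjective _
      (ConcreteCategory.bijective_of_isIso (Scheme.ΓSpecIso (CommRingCat.of B')).inv).2).comp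
      (RingHom.finite_algebraMap.2 hfinB)
  obtain ⟨Q, q, νQ, f', hQ, sqN, hff, sqf'⟩ :=
    exists_quotient_of_affine hX (pf := hr.fst EU.obj.hom) EU.property hps (hr.isPullback EU.obj.hom) hfU hinj (by
    intro W W' _ w w' hw hw' aU bU aW sqW hbπ hbY κ hκ1 hκ2 hκinj
    haveI : IsAffine W.left := ‹_›
    haveI := hw
    let EW : EtOver X := EtOver.mk ((yon S).map w ≫ EU.obj.hom)
      (repWith_comp ((repWith_yon_map_iff _ _).2 hw) EU.property)
    let g : EW ⟶ EU := EtOver.homMk w rfl
    let g' : EW ⟶ EU := EtOver.homMk w' hw'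
    have sqBC : IsPullback ((EtOver.bc hr).map g).hom.left (hr.snd EW.obj.hom) π w :=
      IsPullback.of_map (Over.forget S) (EtOver.bcMap_snd hr g) (EtOver.isPullback_bcMap_left hr g)
    obtain ⟨φ, hφ1, hφ2⟩ : ∃ φ : W' ⟶ hr.pullback EW.obj.hom,
        φ ≫ ((EtOver.bc hr).map g).hom.left = aU ∧ φ ≫ hr.snd EW.obj.hom = aW :=
      ⟨sqBC.lift aU aW sqW.w, sqBC.lift_fst _ _ _, sqBC.lift_snd _ _ _⟩
    have hφ3 : φ ≫ ((EtOver.bc hr).map g').hom.left = bU := by
      refine (yon S).map_injective ((hr.isPullback EU.obj.hom).hom_ext ?_ ?_)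
      · rw [hbY, ← hφ1]
        simp only [Functor.map_comp, Category.assoc]
        rw [EtOver.bc_map, EtOver.bc_map, EtOver.map_bcMap_fst, EtOver.map_bcMap_fst]
      · rw [← Functor.map_comp, ← Functor.map_comp]
        refine congrArg _ ?_
        rw [Category.assoc, EtOver.bc_map, EtOver.bcMap_snd, hbπ]
        change φ ≫ hr.snd EW.obj.hom ≫ w' = aW ≫ w'
        rw [reassoc_of% hφ2]
    haveI : IsAffineHom (pullback.snd ν w).left :=
      MorphismProperty.of_isPullback ((IsPullback.of_hasPullback ν w).map (Over.forget S)) ‹IsAffineHom ν.left›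
    haveI : IsAffine (pullback ν w).left := isAffine_of_isAffineHom (pullback.snd ν w).left
    let F := κ.left.appTop.hom
    let R := F.range.comap φ.left.appTop.hom
    have hsmul : ∀ a, (hr.snd EW.obj.hom).left.appTop a ∈ R := fun a =>
      ⟨(pullback.snd ν w).left.appTop a, (congrArg (fun ψ : W' ⟶ W => ψ.left.appTop a) (hκ2.trans hφ2.symm) :)⟩
    have hG : ∀ y ∈ B', ((EtOver.bc hr).map g).hom.left.left.appTop y ∈ R := fun y hy => by
      obtain ⟨n, rfl⟩ := hrange y hy
      exact ⟨(pullback.fst ν w).left.appTop n, (congrArg (fun ψ : W' ⟶ N => ψ.left.appTop n)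
        (hκ1.trans (by rw [← hφ1, Category.assoc] : aU ≫ fU = φ ≫ ((EtOver.bc hr).map g).hom.left ≫ fU)) :)⟩
    have hG' : ∀ y ∈ B', ((EtOver.bc hr).map g').hom.left.left.appTop y ∈ R := by
      intro y hy
      induction hy using Algebra.adjoin_induction with
      | mem y hy =>
        obtain ⟨z, hz, rfl⟩ := hy
        exact valPush_map_mem hr K inferInstance ‹IsAffine W.left› (inSet_univ _) (inSet_univ _) g g' R hsmul
          (fun z hz => hG _ (hmemK z hz)) z (by
            change z ∈ K₀
            rw [show K₀ = Submodule.span _ (T : Set _) from hT.symm]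
            exact Submodule.subset_span hz)
      | algebraMap a =>
        have e : ((EtOver.bc hr).map g').hom.left.left.appTop (π.left.appTop a) =
            (hr.snd EW.obj.hom).left.appTop (w'.left.appTop a) :=
          (congrArg (fun ψ : hr.pullback EW.obj.hom ⟶ U => ψ.left.appTop a) (EtOver.bcMap_snd hr g') :)
        exact e.symm ▸ hsmul _
      | add a b _ _ ha hb => rw [map_add]; exact R.add_mem ha hb
      | mul a b _ _ ha hb => rw [map_mul]; exact R.mul_mem ha hb
    have hG'' : ∀ y ∈ B', bU.left.appTop y ∈ F.range := fun y hy => by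
      rw [← hφ3]
      exact hG' y hy
    let er := RingEquiv.ofBijective F.rangeRestrict
      ⟨fun a b h => hκinj (congrArg Subtype.val h), F.rangeRestrict_surjective⟩
    let ψ : B' →+* F.range := (bU.left.appTop.hom.comp B'.val.toRingHom).codRestrict F.range fun y => hG'' y.1 y.2
    let ti₀ : (pullback ν w).left ⟶ N.left :=
      homToAffine ((Scheme.ΓSpecIso (CommRingCat.of B')).hom ≫ CommRingCat.ofHom (er.symm.toRingHom.comp ψ))
    have hti : κ.left ≫ ti₀ = bU.left ≫ fU₀ := by
      refine ext_of_isAffine ?_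
      rw [Scheme.Hom.comp_appTop, Scheme.Hom.comp_appTop, homToAffine_appTop, hfU₀, Category.assoc, Category.assoc]
      congr 1
      ext y
      exact congrArg Subtype.val (er.apply_symm_apply (ψ y))
    have hw : ti₀ ≫ ν₀ = (pullback.snd ν w).left ≫ w'.left := by
      refine ext_of_isAffine ?_
      ext a
      refine hκinj ?_
      have e1 : κ.left ≫ ti₀ ≫ ν₀ = κ.left ≫ (pullback.snd ν w).left ≫ w'.left := by
        rw [reassoc_of% hti, hfν]
        exact congrArg (fun ψ : W' ⟶ U => ψ.left) (hbπ.trans (hκ2 =≫ w').symm |>.trans (Category.assoc _ _ _))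
      simpa [Scheme.Hom.comp_appTop] using congrArg (fun φ => φ.appTop a) e1
    refine ⟨Over.homMk ti₀ (?_ : ti₀ ≫ ν₀ ≫ U.hom = _), Over.OverMorphism.ext hw, Over.OverMorphism.ext hti⟩
    rw [reassoc_of% hw, Over.w w', Over.w (pullback.snd ν w)])
  exact ⟨Q, νQ, f', N, fU, q, hQ, inferInstance, ⟨ν₀, hfν⟩, hff,
    repWith_of_etale_cover (fun _ _ k (_ : IsFinite k) => inferInstanceAs (IsAffineHom k)) hQ hX EU.property hps sqN
      ((repWith_yon_map_iff _ _).2 hfinν),
    repWith_of_isPullback sqN.flip EU.property, repWith_of_isPullback sqN.flip hps, hinj,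
    fun g hg => hrange g (hGB g hg), sqf'⟩

end Groth.Agent.H13AlgSp.ZMT
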