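import Groth.Agent.H13AlgSp.ZMT.Quot

/-!
Descent of an affine image, with the lifting of the relation checked on affine schemes etale over the atlas.
-/

set_option autoImplicit false
set_option backward.isDefEq.respectTransparency false
set_option linter.style.haveILetI false

universe u

open CategoryTheory CategoryTheory.Limits AlgebraicGeometry
open AlgSp Groth.Agent.H12AlgSp Groth.Agent.H12AlgSp.NormSp

namespace Groth.Agent.H13AlgSp.ZMT

variable {S : Scheme.{u}}

/-- Descent of an affine image, with the relation lifted on affine schemes etale over the atlas. -/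
theorem exists_quotient_of_affine {X Y : Sp S} (hX : IsAlgSpace X) {f : Y ⟶ X} {U U' N : Over S}
    {p : (yon S).obj U ⟶ X} (hpe : RepWith @Etale p) (hps : RepWith @Surjective p)
    {pf : (yon S).obj U' ⟶ Y} {π : U' ⟶ U} (sqf : IsPullback pf ((yon S).map π) f p)
    {ν : N ⟶ U} {fU : U' ⟶ N} (hfU : fU ≫ ν = π)
    [IsAffine N.left] [IsAffine U'.left] [IsAffineHom ν.left] (hinj : Function.Injective fU.left.appTop)
    (hex : ∀ ⦃W W' : Over S⦄ [IsAffine W.left] (w w' : W ⟶ U), Etale w.left →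
      (yon S).map w' ≫ p = (yon S).map w ≫ p →
      ∀ (aU bU : W' ⟶ U') (aW : W' ⟶ W), IsPullback aU aW π w → bU ≫ π = aW ≫ w' →
        (yon S).map bU ≫ pf = (yon S).map aU ≫ pf → ∀ κ : W' ⟶ pullback ν w,
          κ ≫ pullback.fst ν w = aU ≫ fU → κ ≫ pullback.snd ν w = aW → Function.Injective κ.left.appTop →
            ∃ ti : pullback ν w ⟶ N, ti ≫ ν = pullback.snd ν w ≫ w' ∧ κ ≫ ti = bU ≫ fU) :
    ∃ (Q : Sp S) (q : (yon S).obj N ⟶ Q) (νQ : Q ⟶ X) (f' : Y ⟶ Q), IsAlgSpace Q ∧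
      IsPullback q ((yon S).map ν) νQ p ∧ f' ≫ νQ = f ∧ IsPullback pf ((yon S).map fU) f' q := by
  refine exists_quotient hX hpe hps sqf hfU hinj ?_
  intro R s t hs hts sqR R' B a b r sqa hbπ hbY bN bR sqB κ hκ1 hκ2
  let 𝒰 := R.left.affineCover
  let Wi : 𝒰.I₀ → Over S := fun i => Over.mk (𝒰.f i ≫ R.hom)
  let c : ∀ i, Wi i ⟶ R := fun i => Over.homMk (𝒰.f i) rfl
  haveI : ∀ i, IsAffine (Wi i).left := fun i => inferInstanceAs (IsAffine (Spec _))
  haveI : ∀ i, IsOpenImmersion (c i).left := fun i => inferInstanceAs (IsOpenImmersion (𝒰.f i))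
  let ws : ∀ i, Wi i ⟶ U := fun i => c i ≫ s
  haveI : ∀ i, Etale (ws i).left := fun i => inferInstanceAs (Etale ((c i).left ≫ s.left))
  have sqW := fun i => IsPullback.of_hasPullback π (ws i)
  have sqi := fun i => IsPullback.of_hasPullback ν (ws i)
  have hφ : ∀ i, ∃ φ : pullback π (ws i) ⟶ R', φ ≫ a = pullback.fst _ _ ∧ φ ≫ r = pullback.snd _ _ ≫ c i :=
    fun i => ⟨sqa.lift (pullback.fst _ _) (pullback.snd _ _ ≫ c i)
      (by rw [Category.assoc]; exact pullback.condition), sqa.lift_fst _ _ _, sqa.lift_snd _ _ _⟩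
  choose φ hφ1 hφ2 using hφ
  have hκi : ∀ i, ∃ κi : pullback π (ws i) ⟶ pullback ν (ws i),
      κi ≫ pullback.fst _ _ = pullback.fst _ _ ≫ fU ∧ κi ≫ pullback.snd _ _ = pullback.snd _ _ := fun i =>
    ⟨pullback.lift _ (pullback.snd _ _) (by rw [Category.assoc, hfU, pullback.condition]), pullback.lift_fst _ _ _,
      pullback.lift_snd _ _ _⟩
  choose κi hκi1 hκi2 using hκi
  have hinji : ∀ i, Function.Injective (κi i).left.appTop := fun i =>
    injective_appTop_bc hfU hinj (sqi i) (sqW i) (hκi1 i) (hκi2 i)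
  have hti : ∀ i, ∃ ti : pullback ν (ws i) ⟶ N, ti ≫ ν = pullback.snd _ _ ≫ c i ≫ t ∧
      κi i ≫ ti = (φ i ≫ b) ≫ fU := fun i =>
    hex (ws i) (c i ≫ t) inferInstance
      (by simp only [ws, Functor.map_comp, Category.assoc, hts])
      _ (φ i ≫ b) _ (sqW i) (by rw [Category.assoc, hbπ, reassoc_of% (hφ2 i)])
      (by rw [Functor.map_comp, Category.assoc, hbY, ← Functor.map_comp_assoc, hφ1]) (κi i) (hκi1 i) (hκi2 i)
      (hinji i)
  choose ti hti2 hti1 using hti
  -- the pieces of `B`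
  have hd : ∀ i, ∃ d : pullback ν (ws i) ⟶ B, d ≫ bN = pullback.fst _ _ ∧ d ≫ bR = pullback.snd _ _ ≫ c i :=
    fun i => ⟨sqB.lift (pullback.fst _ _) (pullback.snd _ _ ≫ c i) (by rw [Category.assoc]; exact pullback.condition),
      sqB.lift_fst _ _ _, sqB.lift_snd _ _ _⟩
  choose d hd1 hd2 using hd
  have sqd : ∀ i, IsPullback (d i) (pullback.snd ν (ws i)) bR (c i) := fun i =>
    IsPullback.of_right (by rw [hd1]; exact sqi i) (hd2 i) sqB
  have compat : ∀ i j {T : Over S} (x : T ⟶ pullback ν (ws i)) (y : T ⟶ pullback ν (ws j)),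
      x ≫ d i = y ≫ d j → x ≫ ti i = y ≫ ti j := by
    intro i j T x y hxy
    let wij : pullback (c i) (c j) ⟶ U := pullback.fst (c i) (c j) ≫ ws i
    haveI : IsOpenImmersion (pullback.fst (c i) (c j)).left :=
      MorphismProperty.of_isPullback (P := @IsOpenImmersion)
        ((IsPullback.of_hasPullback (c i) (c j)).map (Over.forget S)).flip (inferInstanceAs (IsOpenImmersion (c j).left))
    have hwij : Flat wij.left := inferInstanceAs (Flat ((pullback.fst (c i) (c j)).left ≫ (c i).left ≫ s.left))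
    let φi : pullback ν wij ⟶ pullback ν (ws i) := pullback.lift (pullback.fst _ _) (pullback.snd _ _ ≫ pullback.fst _ _)
      (by rw [Category.assoc]; exact pullback.condition)
    let φj : pullback ν wij ⟶ pullback ν (ws j) := pullback.lift (pullback.fst _ _) (pullback.snd _ _ ≫ pullback.snd _ _)
      (by simp only [ws, Category.assoc, ← pullback.condition_assoc]; exact pullback.condition)
    obtain ⟨z, hz1, hz2⟩ : ∃ z : T ⟶ pullback (c i) (c j),
        z ≫ pullback.fst _ _ = x ≫ pullback.snd _ _ ∧ z ≫ pullback.snd _ _ = y ≫ pullback.snd _ _ :=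
      ⟨pullback.lift _ _ (by rw [Category.assoc, ← hd2, reassoc_of% hxy, hd2, Category.assoc]),
        pullback.lift_fst _ _ _, pullback.lift_snd _ _ _⟩
    obtain ⟨ψ, hψ1, hψ2⟩ : ∃ ψ : T ⟶ pullback ν wij, ψ ≫ pullback.fst _ _ = x ≫ pullback.fst _ _ ∧
        ψ ≫ pullback.snd _ _ = z :=
      ⟨pullback.lift _ z (by rw [Category.assoc, pullback.condition, reassoc_of% hz1]),
        pullback.lift_fst _ _ _, pullback.lift_snd _ _ _⟩
    have hxψ : x = ψ ≫ φi := pullback.hom_ext (by simp [φi, hψ1]) (by simp [φi, reassoc_of% hψ2, hz1])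
    have hyψ : y = ψ ≫ φj := pullback.hom_ext
      (by simp only [φj, Category.assoc, pullback.lift_fst]; rw [hψ1, ← hd1 j, ← hd1 i, reassoc_of% hxy])
      (by simp [φj, reassoc_of% hψ2, hz2])
    rw [hxψ, hyψ, Category.assoc, Category.assoc]
    congr 1
    have sqP := IsPullback.of_hasPullback π wij
    obtain ⟨κ', hκ'1, hκ'2⟩ : ∃ κ' : pullback π wij ⟶ pullback ν wij,
        κ' ≫ pullback.fst _ _ = pullback.fst _ _ ≫ fU ∧ κ' ≫ pullback.snd _ _ = pullback.snd _ _ :=
      ⟨pullback.lift _ (pullback.snd _ _) (by rw [Category.assoc, hfU, pullback.condition]),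
        pullback.lift_fst _ _ _, pullback.lift_snd _ _ _⟩
    refine eq_of_comp_eq hfU hinj hwij (IsPullback.of_hasPullback ν wij) sqP hκ'1 hκ'2 ?_
    obtain ⟨ai, hai1, hai2⟩ : ∃ ai, ai ≫ pullback.fst π (ws i) = pullback.fst π wij ∧
        ai ≫ pullback.snd π (ws i) = pullback.snd π wij ≫ pullback.fst _ _ :=
      ⟨(sqW i).lift _ _ (by rw [Category.assoc]; exact pullback.condition),
        (sqW i).lift_fst _ _ _, (sqW i).lift_snd _ _ _⟩
    obtain ⟨aj, haj1, haj2⟩ : ∃ aj, aj ≫ pullback.fst π (ws j) = pullback.fst π wij ∧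
        aj ≫ pullback.snd π (ws j) = pullback.snd π wij ≫ pullback.snd _ _ :=
      ⟨(sqW j).lift _ _ (by simp only [ws, Category.assoc, ← pullback.condition_assoc]; exact pullback.condition),
        (sqW j).lift_fst _ _ _, (sqW j).lift_snd _ _ _⟩
    have h1 : κ' ≫ φi = ai ≫ κi i := pullback.hom_ext
      (by simp only [φi, Category.assoc, pullback.lift_fst, hκi1, hκ'1, reassoc_of% hai1])
      (by simp only [φi, Category.assoc, pullback.lift_snd, hκi2, hai2, reassoc_of% hκ'2])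
    have h2 : κ' ≫ φj = aj ≫ κi j := pullback.hom_ext
      (by simp only [φj, Category.assoc, pullback.lift_fst, hκi1, hκ'1, reassoc_of% haj1])
      (by simp only [φj, Category.assoc, pullback.lift_snd, hκi2, haj2, reassoc_of% hκ'2])
    have h3 : ai ≫ φ i = aj ≫ φ j := sqa.hom_ext
      (by rw [Category.assoc, Category.assoc, hφ1, hφ1, hai1, haj1])
      (by rw [Category.assoc, Category.assoc, hφ2, hφ2, reassoc_of% hai2, reassoc_of% haj2, pullback.condition])
    rw [reassoc_of% h1, reassoc_of% h2, hti1, hti1, Category.assoc, Category.assoc, reassoc_of% h3]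
  let 𝒱 := 𝒰.pullback₁ bR.left
  have sqd' : ∀ i, IsPullback (d i).left (pullback.snd ν (ws i)).left bR.left (𝒰.f i) := fun i =>
    (sqd i).map (Over.forget S)
  let e := fun i => (sqd' i).isoPullback
  have hglue : ∀ i j, pullback.fst (𝒱.f i) (𝒱.f j) ≫ (e i).inv ≫ (ti i).left =
      pullback.snd (𝒱.f i) (𝒱.f j) ≫ (e j).inv ≫ (ti j).left := fun i j => by
    let T : Over S := Over.mk (pullback.fst (𝒱.f i) (𝒱.f j) ≫ 𝒱.f i ≫ B.hom)
    have ei : (e i).inv ≫ (d i).left = 𝒱.f i := (sqd' i).isoPullback_inv_fst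
    have ej : (e j).inv ≫ (d j).left = 𝒱.f j := (sqd' j).isoPullback_inv_fst
    let x : T ⟶ pullback ν (ws i) := Over.homMk (pullback.fst (𝒱.f i) (𝒱.f j) ≫ (e i).inv) (by
      rw [← Over.w (d i), Category.assoc, reassoc_of% ei]; rfl)
    let y : T ⟶ pullback ν (ws j) := Over.homMk (pullback.snd (𝒱.f i) (𝒱.f j) ≫ (e j).inv) (by
      rw [← Over.w (d j), Category.assoc, reassoc_of% ej, ← pullback.condition_assoc]; rfl)
    have hxy : x ≫ d i = y ≫ d j := Over.OverMorphism.ext (by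
      change (pullback.fst _ _ ≫ _) ≫ (d i).left = (pullback.snd _ _ ≫ _) ≫ (d j).left
      rw [Category.assoc, Category.assoc, ei, ej]
      exact pullback.condition)
    simpa [x, y] using congrArg (fun φ => φ.left) (compat i j x y hxy)
  obtain ⟨t₀, ht₀'⟩ : ∃ t₀ : B.left ⟶ N.left, ∀ i, 𝒱.f i ≫ t₀ = (e i).inv ≫ (ti i).left :=
    ⟨_, Scheme.Cover.ι_glueMorphisms 𝒱 (fun i => (e i).inv ≫ (ti i).left) hglue⟩
  have ht₀ : ∀ i, (d i).left ≫ t₀ = (ti i).left := fun i => by
    rw [← cancel_epi (e i).inv, ← Category.assoc, show (e i).inv ≫ (d i).left = 𝒱.f i from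
      (sqd' i).isoPullback_inv_fst]
    exact ht₀' i
  have hcomp : ∀ i, (d i).left ≫ t₀ ≫ ν.left = (d i).left ≫ (bR ≫ t).left := fun i => by
    have h := congrArg (fun φ => φ.left) (hti2 i)
    have h' := congrArg (fun φ => φ.left) (hd2 i)
    simp only [Over.comp_left] at h h'
    rw [reassoc_of% (ht₀ i), Over.comp_left, reassoc_of% h']
    exact h
  have hν' : t₀ ≫ ν.left = (bR ≫ t).left := Scheme.Cover.hom_ext 𝒱 _ _ fun i => by
    rw [← show (e i).inv ≫ (d i).left = 𝒱.f i from (sqd' i).isoPullback_inv_fst, Category.assoc, Category.assoc,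
      hcomp]
  have hw0 : t₀ ≫ N.hom = B.hom := by rw [← Over.w ν, reassoc_of% hν']; exact Over.w (bR ≫ t)
  refine ⟨Over.homMk t₀ hw0, Over.OverMorphism.ext hν', Over.OverMorphism.ext ?_⟩
  refine Scheme.Cover.hom_ext (𝒰.pullback₁ r.left) _ _ fun i => ?_
  let T : Over S := Over.mk (pullback.fst r.left (𝒰.f i) ≫ R'.hom)
  let τ : T ⟶ R' := Over.homMk (pullback.fst r.left (𝒰.f i)) rfl
  let τ' : T ⟶ Wi i := Over.homMk (pullback.snd r.left (𝒰.f i)) (by
    change pullback.snd _ _ ≫ 𝒰.f i ≫ R.hom = pullback.fst _ _ ≫ R'.hom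
    rw [← pullback.condition_assoc, Over.w r])
  have hττ : τ ≫ r = τ' ≫ c i := Over.OverMorphism.ext pullback.condition
  obtain ⟨σ, hσ1, hσ2⟩ : ∃ σ : T ⟶ pullback π (ws i), σ ≫ pullback.fst _ _ = τ ≫ a ∧ σ ≫ pullback.snd _ _ = τ' :=
    ⟨(sqW i).lift (τ ≫ a) τ' (by rw [Category.assoc, sqa.w, reassoc_of% hττ]),
      (sqW i).lift_fst _ _ _, (sqW i).lift_snd _ _ _⟩
  have h1 : σ ≫ κi i ≫ d i = τ ≫ κ := sqB.hom_ext
    (by simp only [Category.assoc, hd1, hκi1, hκ1, reassoc_of% hσ1])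
    (by simp only [Category.assoc, hd2, reassoc_of% (hκi2 i), hκ2, reassoc_of% hσ2, hττ])
  have h2 : σ ≫ φ i = τ := sqa.hom_ext (by rw [Category.assoc, hφ1, hσ1])
    (by rw [Category.assoc, hφ2, reassoc_of% hσ2, hττ])
  have e1 := congrArg (fun φ => φ.left) h1
  have e2 := congrArg (fun φ => φ.left) h2
  have e3 := congrArg (fun φ => φ.left) (hti1 i)
  simp only [Over.comp_left, Category.assoc] at e1 e2 e3
  change τ.left ≫ κ.left ≫ t₀ = τ.left ≫ b.left ≫ fU.left
  rw [← reassoc_of% e1, ht₀, e3, reassoc_of% e2]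

end Groth.Agent.H13AlgSp.ZMT
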