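import Groth.Agent.H06EGA11c.ProperBC
import Mathlib.AlgebraicGeometry.Morphisms.IsIso
import Mathlib.AlgebraicGeometry.Morphisms.FiniteType

/-!
A quasi-compact open of finite type of an affine scheme, as an open of a finite affine image.
-/

set_option autoImplicit false
set_option backward.isDefEq.respectTransparency false
set_option linter.style.haveILetI false

universe u

open CategoryTheory CategoryTheory.Limits AlgebraicGeometry

namespace Groth.Agent.H13AlgSp.ZMT

theorem topIso_ι_appTop {B : Scheme.{u}} (D : B.Opens) (a : Γ(B, ⊤)) :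
    D.topIso.hom (D.ι.appTop a) = B.presheaf.map (homOfLE (le_top : D ≤ ⊤)).op a := by
  simp only [Scheme.Opens.ι_appTop, Scheme.Opens.topIso_hom, ← CommRingCat.comp_apply, ← Functor.map_comp]
  rfl

theorem isUnit_ι_appTop_basicOpen {B : Scheme.{u}} (b : Γ(B, ⊤)) :
    IsUnit ((B.basicOpen b).ι.appTop b) := by
  have h : IsUnit ((B.basicOpen b).topIso.hom ((B.basicOpen b).ι.appTop b)) := by
    rw [topIso_ι_appTop]
    exact B.toRingedSpace.isUnit_res_basicOpen b
  have h' := h.map (B.basicOpen b).topIso.inv.hom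
  rwa [Iso.hom_inv_id_apply] at h'

variable {V B A : Scheme.{u}} (v : V ⟶ B) [IsOpenImmersion v] [IsAffine B] [IsAffine A] (π : B ⟶ A)

/-- Finitely many functions determine a quasi-compact open which is of finite type over the base. -/
theorem exists_finset_functions [CompactSpace V] [LocallyOfFiniteType (v ≫ π)] :
    ∃ G : Finset Γ(B, ⊤), ∀ (B' : Scheme.{u}) [IsAffine B'] (φ : B ⟶ B') (ν : B' ⟶ A), φ ≫ ν = π →
      Function.Injective φ.appTop → (∀ g ∈ G, g ∈ Set.range φ.appTop) → IsOpenImmersion (v ≫ φ) := by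
  classical
  obtain ⟨bs, hbs, hun⟩ := (isCompact_and_isOpen_iff_finite_and_eq_biUnion_basicOpen (U := Set.range v)).1
    ⟨isCompact_range v.continuous, v.isOpenEmbedding.isOpen_range⟩
  have hsub : ∀ b ∈ bs, (B.basicOpen b : Set B) ⊆ Set.range v := fun b hb => by
    rw [hun]; exact Set.subset_biUnion_of_mem (u := fun b => (B.basicOpen b : Set B)) hb
  have hgen : ∀ b ∈ bs, ∃ G : Finset Γ(B, ⊤), ∀ (B' : Scheme.{u}) [IsAffine B'] (φ : B ⟶ B') (ν : B' ⟶ A),
      φ ≫ ν = π → Function.Injective φ.appTop → (∀ g ∈ G, g ∈ Set.range φ.appTop) →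
      IsOpenImmersion ((B.basicOpen b).ι ≫ φ) ∧ ∀ x y, x ∈ B.basicOpen b → φ x = φ y → y ∈ B.basicOpen b := by
    intro b hb
    let D := B.basicOpen b
    haveI : IsAffine D.toScheme := (isAffineOpen_top B).basicOpen b
    let l : D.toScheme ⟶ V := IsOpenImmersion.lift v D.ι (by rw [Scheme.Opens.range_ι]; exact hsub b hb)
    haveI : IsOpenImmersion l := by
      haveI : IsOpenImmersion (l ≫ v) := by rw [IsOpenImmersion.lift_fac]; infer_instance
      exact IsOpenImmersion.of_comp l v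
    haveI : LocallyOfFiniteType (D.ι ≫ π) := by
      rw [← IsOpenImmersion.lift_fac v D.ι (by rw [Scheme.Opens.range_ι]; exact hsub b hb), Category.assoc]
      infer_instance
    have hft : (D.ι ≫ π).appTop.hom.FiniteType :=
      (HasRingHomProperty.iff_of_isAffine (P := @LocallyOfFiniteType)).1 ‹_›
    algebraize [(D.ι ≫ π).appTop.hom]
    obtain ⟨s, hs⟩ := hft.out
    have hu : IsUnit (D.ι.appTop b) := isUnit_ι_appTop_basicOpen b
    have hfrac : ∀ x : Γ(D.toScheme, ⊤), ∃ (c : Γ(B, ⊤)) (n : ℕ), x * D.ι.appTop b ^ n = D.ι.appTop c := by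
      intro x
      haveI := (isAffineOpen_top B).isLocalization_basicOpen b
      obtain ⟨⟨c, ⟨_, n, rfl⟩⟩, hc⟩ := IsLocalization.surj (S := Γ(B, D)) (Submonoid.powers b) (D.topIso.hom x)
      refine ⟨c, n, ?_⟩
      have hι : ∀ a : Γ(B, ⊤), D.topIso.hom (D.ι.appTop a) = algebraMap Γ(B, ⊤) Γ(B, D) a := fun a => by
        simp only [Scheme.Opens.ι_appTop, Scheme.Opens.topIso_hom, ← CommRingCat.comp_apply, ← Functor.map_comp]
        rfl
      apply (ConcreteCategory.bijective_of_isIso D.topIso.hom).1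
      rw [map_mul, map_pow, hι, hι, ← map_pow]
      exact hc
    choose c n hcn using hfrac
    refine ⟨insert b (s.image c), fun B' _ φ ν hν hinj hG => ?_⟩
    obtain ⟨b', hb'⟩ := hG b (Finset.mem_insert_self _ _)
    have hpre : φ ⁻¹ᵁ B'.basicOpen b' = D := by
      rw [Scheme.preimage_basicOpen_top, hb']
    let O := B'.basicOpen b'
    haveI : IsAffine O.toScheme := (isAffineOpen_top B').basicOpen b'
    haveI : IsAffine (φ ⁻¹ᵁ O).toScheme := by rw [hpre]; infer_instance
    have hinjO : Function.Injective (φ ∣_ O).appTop :=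
      H06EGA11c.injective_appTop_of_flat (isPullback_morphismRestrict φ O).flip hinj
    let e : (φ ⁻¹ᵁ O).toScheme ≅ D.toScheme := B.isoOfEq hpre
    have he : e.hom ≫ D.ι = (φ ⁻¹ᵁ O).ι := B.isoOfEq_hom_ι hpre
    let ψ := e.inv ≫ φ ∣_ O
    have hψι : ψ ≫ O.ι = D.ι ≫ φ := by
      simp only [ψ, Category.assoc, morphismRestrict_ι, ← he, Iso.inv_hom_id_assoc]
    have hψinj : Function.Injective ψ.appTop := by
      intro a a' h
      simp only [ψ, Scheme.Hom.comp_appTop, CommRingCat.comp_apply] at h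
      exact hinjO ((ConcreteCategory.bijective_of_isIso e.inv.appTop).1 h)
    have hψι' : ∀ a, ψ.appTop (O.ι.appTop a) = D.ι.appTop (φ.appTop a) := fun a => by
      simpa only [Scheme.Hom.comp_appTop, CommRingCat.comp_apply] using congrArg (fun k => k.appTop a) hψι
    have hψsurj : Function.Surjective ψ.appTop := by
      intro x
      have hx : x ∈ Algebra.adjoin Γ(A, ⊤) (s : Set Γ(D.toScheme, ⊤)) := by rw [hs]; trivial
      induction hx using Algebra.adjoin_induction with
      | mem x hx =>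
        obtain ⟨c', hc'⟩ := hG _ (Finset.mem_insert_of_mem (Finset.mem_image_of_mem _ hx))
        have hu' : IsUnit (O.ι.appTop b') := isUnit_ι_appTop_basicOpen b'
        obtain ⟨w, hw⟩ := hu'
        refine ⟨O.ι.appTop c' * ↑(w⁻¹ ^ n x), (hu.pow (n x)).mul_right_cancel ?_⟩
        rw [hcn x, ← hc', ← hψι', ← hb', ← hψι', ← map_pow, ← map_mul, ← hw, mul_assoc, ← Units.val_pow_eq_pow_val,
          ← Units.val_mul, inv_pow, inv_mul_cancel, Units.val_one, mul_one]
      | algebraMap a =>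
        refine ⟨O.ι.appTop (ν.appTop a), ?_⟩
        rw [hψι', RingHom.algebraMap_toAlgebra]
        change _ = (D.ι ≫ π).appTop a
        simp only [← hν, Scheme.Hom.comp_appTop, CommRingCat.comp_apply]
      | add x y _ _ hx hy =>
        obtain ⟨x, rfl⟩ := hx; obtain ⟨y, rfl⟩ := hy
        exact ⟨x + y, map_add _ _ _⟩
      | mul x y _ _ hx hy =>
        obtain ⟨x, rfl⟩ := hx; obtain ⟨y, rfl⟩ := hy
        exact ⟨x * y, map_mul _ _ _⟩
    haveI : IsIso ψ.appTop := ConcreteCategory.isIso_iff_bijective _ |>.2 ⟨hψinj, hψsurj⟩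
    haveI : IsIso ψ := (HasAffineProperty.iff_of_isAffine (P := MorphismProperty.isomorphisms Scheme)).2
      ⟨inferInstance, inferInstance⟩
    refine ⟨?_, fun x y hx hxy => ?_⟩
    · rw [← hψι]; infer_instance
    · change x ∈ D at hx
      change y ∈ D
      rw [← hpre] at hx ⊢
      change φ y ∈ O
      rw [← hxy]
      exact hx
  choose Gb hGb using hgen
  refine ⟨hbs.toFinset.attach.biUnion fun b => Gb b.1 (hbs.mem_toFinset.1 b.2), fun B' _ φ ν hν hinj hG => ?_⟩
  have key : ∀ b (hb : b ∈ bs), IsOpenImmersion ((B.basicOpen b).ι ≫ φ) ∧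
      ∀ x y, x ∈ B.basicOpen b → φ x = φ y → y ∈ B.basicOpen b := fun b hb =>
    hGb b hb B' φ ν hν hinj fun g hg =>
      hG g (Finset.mem_biUnion.2 ⟨⟨b, hbs.mem_toFinset.2 hb⟩, Finset.mem_attach _ _, hg⟩)
  have hmem : ∀ x, ∃ b ∈ bs, v x ∈ B.basicOpen b := fun x => by
    have h : v x ∈ ⋃ b ∈ bs, (B.basicOpen b : Set B) := hun ▸ Set.mem_range_self x
    simpa using h
  refine IsOpenImmersion.of_openCover_source _ (Scheme.openCoverOfIsOpenCover V
    (fun b : bs => v ⁻¹ᵁ B.basicOpen b.1) ?_) ?_ fun b => ?_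
  · refine TopologicalSpace.Opens.ext (Set.eq_univ_of_forall fun x => ?_)
    obtain ⟨b, hb, hx⟩ := hmem x
    exact TopologicalSpace.Opens.mem_iSup.2 ⟨⟨b, hb⟩, hx⟩
  · intro x y hxy
    obtain ⟨b, hb, hx⟩ := hmem x
    obtain ⟨hi, hsat⟩ := key b hb
    have hy := hsat _ _ hx hxy
    exact v.isOpenEmbedding.injective (congrArg Subtype.val
      (((B.basicOpen b).ι ≫ φ).isOpenEmbedding.injective (a₁ := ⟨_, hx⟩) (a₂ := ⟨_, hy⟩) hxy))
  · haveI := (key b.1 b.2).1
    change IsOpenImmersion ((v ⁻¹ᵁ B.basicOpen b.1).ι ≫ v ≫ φ)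
    rw [← morphismRestrict_ι_assoc]
    infer_instance

end Groth.Agent.H13AlgSp.ZMT
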