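import Groth.Agent.H13AlgSp.ZMT.Gen
import Groth.Agent.H13AlgSp.ZMT.OpenImm
import Groth.Agent.H13AlgSp.ThickFlat
import Groth.Agent.H12AlgSp.NormSp.QFLocus
import Groth.Agent.H12AlgSp.NormSp.BaseChange
import Groth.Agent.H12AlgSp.Immersion
import Groth.Agent.H12AlgSp.QC
import Groth.Agent.H12AlgSp.Sep

/-!
Zariski's main theorem for algebraic spaces.
-/

set_option autoImplicit false
set_option backward.isDefEq.respectTransparency false
set_option linter.style.haveILetI false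

universe u

open CategoryTheory CategoryTheory.Limits AlgebraicGeometry Opposite
open AlgSp Groth.Agent.H12AlgSp Groth.Agent.H12AlgSp.NormSp

namespace Groth.Agent.H13AlgSp.ZMT

variable {S : Scheme.{u}}

/-- A quasi-finite separated morphism is an open subspace of its normalization. -/
theorem exists_openImmersion_normalization {X Y : Sp S} (hX : IsAlgSpace X) (hY : IsAlgSpace Y) {f : X ⟶ Y}
    (hf1 : LocP (@LocallyQuasiFinite ⊓ @LocallyOfFiniteType) f) (hf2 : IsQuasiCompactMor f) (hf3 : IsSeparatedMor f) :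
    ∃ (Q : Sp S) (ν : Q ⟶ Y) (f₀ : X ⟶ Q), IsAlgSpace Q ∧ f₀ ≫ ν = f ∧ RepWith @IsIntegralHom ν ∧
      RepWith @IsOpenImmersion f₀ := by
  obtain ⟨Q, ν, f₀, hQ, hn, -⟩ :=
    exists_isRelNormalization hX hY f hf2 (isQuasiSeparatedMor_of_isSeparatedMor hf3)
  refine ⟨Q, ν, f₀, hQ, hn.1, isIntegralMor_iff.1 hn.2.1, ?_⟩
  obtain ⟨U', j, -, hj, h⟩ := exists_iso_over_qfLocus hX hY hQ
    (f := f) ⟨fun _ _ a b g ha hb e => (hf1 a b g ha hb e).2, hf2⟩ hf3 hn
  have sq := IsPullback.of_hasPullback f₀ j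
  obtain ⟨hiso, hrange⟩ := h _ _ _ sq
  obtain ⟨U, V, a, b, g, ha, has, hb, -, hab⟩ := Groth.Agent.H12AlgSp.exists_chart hX hY f
  have hall : Function.Surjective (Points.map (pullback.fst f₀ j)) := fun x => by
    refine (Set.ext_iff.1 hrange x).2 ?_
    obtain ⟨u, rfl⟩ := surjective_ofPt_of_repWith le_rfl has x
    refine ⟨U, V, a, b, g, u, ha, hb, hab, rfl, ⊤, trivial, ?_, ?_⟩
    · haveI := (hf1 a b g ha hb hab).1
      infer_instance
    · haveI := (hf1 a b g ha hb hab).2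
      infer_instance
  haveI : IsIso (pullback.fst f₀ j) := ThickFlat.isIso_of_openImmersion_surjective hX (repWith_of_isPullback sq.flip hj) hall
  rw [show f₀ = inv (pullback.fst f₀ j) ≫ pullback.snd f₀ j ≫ j by rw [← pullback.condition, IsIso.inv_hom_id_assoc]]
  exact repWith_comp (repWith_of_isIso _) (repWith_comp (repWith_of_isIso _) hj)

/-- Zariski's main theorem for algebraic spaces. -/
theorem exists_factor_finite [QuasiSeparatedSpace S] {X Y : Sp S} (hX : IsAlgSpace X) (hY : IsAlgSpace Y) {f : X ⟶ Y}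
    (hf1 : LocP (@LocallyQuasiFinite ⊓ @LocallyOfFiniteType) f) (hf2 : IsQuasiCompactMor f) (hf3 : IsSeparatedMor f)
    (hY1 : IsQuasiCompactSp Y) (hY2 : IsQuasiSeparatedSp Y) :
    ∃ (T : Sp S) (j : X ⟶ T) (π : T ⟶ Y), IsAlgSpace T ∧ j ≫ π = f ∧ RepWith @IsOpenImmersion j ∧
      IsQuasiCompactMor j ∧ RepWith @IsFinite π := by
  obtain ⟨Q, ν, f₀, hQ, hfac, hint, hf₀⟩ := exists_openImmersion_normalization hX hY hf1 hf2 hf3
  haveI := compactSpace_points_of_isQuasiCompactSp hY1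
  obtain ⟨U, p, hUaff, hpe, hps⟩ := Groth.Agent.H12AlgSp.exists_affine_atlas hY
  let EU : EtOver Y := EtOver.mk p hpe
  haveI : IsAffine EU.obj.left.left := hUaff
  haveI : IsAffine U.left := hUaff
  let hr : Representable ν := hint.rep
  let U' : Over S := hr.pullback p
  let π₁ : U' ⟶ U := hr.snd p
  have hπ₁ : IsIntegralHom π₁.left := hint.property _ _ _ (hr.isPullback p)
  haveI : IsAffine U'.left := isAffine_of_isAffineHom π₁.left
  obtain ⟨V, v, k, sqV⟩ := hf₀.rep (hr.fst p)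
  haveI hv : IsOpenImmersion v.left := hf₀.property _ _ _ sqV
  have sqX : IsPullback k ((yon S).map (v ≫ π₁)) f p := by
    have := sqV.paste_vert (hr.isPullback p)
    rwa [hfac, ← Functor.map_comp] at this
  haveI : CompactSpace V.left :=
    isQuasiCompactSp_yon_iff.1 (hf2 (IsAlgSpace.yon_obj U) (isQuasiCompactSp_yon_iff.2 inferInstance) p _ _ sqX)
  haveI : LocallyOfFiniteType (v.left ≫ π₁.left) :=
    (hf1 k p (v ≫ π₁) (repWith_of_isPullback sqX.flip hpe) hpe sqX.w).2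
  obtain ⟨G, hG⟩ := exists_finset_functions v.left π₁.left
  obtain ⟨T, νT, f', N, fU, q, hT, hN, ⟨ν₁, hν₁⟩, hff, hfin, hqe, hqs, hinj, hGr, sqf'⟩ :=
    exists_finite_image hr hY hQ hY1 hY2 hint EU hps G
  haveI := hG N.left fU.left ν₁ hν₁ hinj hGr
  have sqj : IsPullback k ((yon S).map (v ≫ fU)) (f₀ ≫ f') q := by
    rw [Functor.map_comp]
    exact sqV.paste_vert sqf'
  have hjT : f₀ ≫ f' ≫ νT = f := by rw [hff, hfac]
  have hj : RepWith @IsOpenImmersion (f₀ ≫ f') :=
    repWith_of_etale_cover_immersions hX hT (Or.inr (Or.inl rfl)) hqe hqs sqj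
      ((repWith_yon_map_iff _ _).2 (inferInstanceAs (IsOpenImmersion (v.left ≫ fU.left))))
  refine ⟨T, f₀ ≫ f', νT, hT, by rw [Category.assoc, hjT], hj, ?_, hfin⟩
  refine isQuasiCompactMor_of_comp hX hT hY (by rw [Category.assoc, hjT]; exact hf2) ?_
  exact isQuasiSeparatedMor_of_isSeparatedMor (isSeparatedMor_of_repWith
    (repWith_le (fun _ _ i (_ : IsFinite i) => inferInstanceAs (IsSeparated i)) hfin))

end Groth.Agent.H13AlgSp.ZMT
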