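import Groth.Agent.H12AlgSp.NormSp.Construct
import Groth.Agent.H12AlgSp.AffineMor
import Groth.Agent.H06EGA11c.ProperBC

/-!
A schematically dominant affine image of the pullback to an atlas descends to the base when the relation lifts to it.
-/

set_option autoImplicit false
set_option backward.isDefEq.respectTransparency false
set_option linter.style.haveILetI false

universe u

open CategoryTheory CategoryTheory.Limits AlgebraicGeometry
open AlgSp Groth.Agent.H12AlgSp Groth.Agent.H12AlgSp.NormSp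

namespace Groth.Agent.H13AlgSp.ZMT

variable {S : Scheme.{u}}

/-- Injectivity on functions passes to flat affine base changes of the atlas. -/
theorem injective_appTop_bc {U N U' W B W' : Over S} {π : U' ⟶ U} {ν : N ⟶ U} {fU : U' ⟶ N} (hfU : fU ≫ ν = π)
    [IsAffine N.left] [IsAffine U'.left] [IsAffineHom ν.left]
    (hinj : Function.Injective fU.left.appTop) {w : W ⟶ U} [Flat w.left] [IsAffine W.left] {bN : B ⟶ N}
    {bW : B ⟶ W} (sqB : IsPullback bN bW ν w) {aU : W' ⟶ U'} {aW : W' ⟶ W} (sqW : IsPullback aU aW π w)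
    {κ : W' ⟶ B} (h1 : κ ≫ bN = aU ≫ fU) (h2 : κ ≫ bW = aW) : Function.Injective κ.left.appTop := by
  haveI : IsAffineHom bW.left := MorphismProperty.of_isPullback (sqB.map (Over.forget S)) ‹IsAffineHom ν.left›
  haveI : IsAffine B.left := isAffine_of_isAffineHom bW.left
  haveI : Flat bN.left := MorphismProperty.of_isPullback (sqB.map (Over.forget S)).flip ‹Flat w.left›
  have sqκ : IsPullback aU κ fU bN := by
    refine IsPullback.of_bot ?_ h1.symm sqB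
    rwa [h2, hfU]
  have hsq : IsPullback aU.left κ.left fU.left bN.left := sqκ.map (Over.forget S)
  haveI : IsAffineHom fU.left := inferInstance
  exact H06EGA11c.injective_appTop_of_flat hsq hinj

/-- Maps from a flat base change to an affine scheme are determined on the source. -/
theorem eq_of_comp_eq {U N U' W B W' : Over S} {π : U' ⟶ U} {ν : N ⟶ U} {fU : U' ⟶ N} (hfU : fU ≫ ν = π)
    [IsAffine N.left] [IsAffine U'.left] [IsAffineHom ν.left]
    (hinj : Function.Injective fU.left.appTop) {w : W ⟶ U} (hw : Flat w.left) {bN : B ⟶ N}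
    {bW : B ⟶ W} (sqB : IsPullback bN bW ν w) {aU : W' ⟶ U'} {aW : W' ⟶ W} (sqW : IsPullback aU aW π w)
    {κ : W' ⟶ B} (h1 : κ ≫ bN = aU ≫ fU) (h2 : κ ≫ bW = aW) {h h' : B ⟶ N} (e : κ ≫ h = κ ≫ h') : h = h' := by
  refine Over.OverMorphism.ext (Scheme.Cover.hom_ext (W.left.affineCover.pullback₁ bW.left) _ _ fun i => ?_)
  let Wi : Over S := Over.mk (W.left.affineCover.f i ≫ W.hom)
  haveI : IsAffine Wi.left := inferInstanceAs (IsAffine (Spec _))
  let c : Wi ⟶ W := Over.homMk (W.left.affineCover.f i) rfl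
  haveI : Flat c.left := inferInstanceAs (Flat (W.left.affineCover.f i))
  haveI : Flat (c ≫ w).left := inferInstanceAs (Flat (c.left ≫ w.left))
  let Bi : Over S := Over.mk (pullback.fst bW.left (W.left.affineCover.f i) ≫ B.hom)
  let d : Bi ⟶ B := Over.homMk (pullback.fst bW.left (W.left.affineCover.f i)) rfl
  let di : Bi ⟶ Wi := Over.homMk (pullback.snd bW.left (W.left.affineCover.f i)) (by
    change pullback.snd _ _ ≫ W.left.affineCover.f i ≫ W.hom = pullback.fst _ _ ≫ B.hom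
    rw [← pullback.condition_assoc, Over.w bW])
  have sqd : IsPullback d di bW c :=
    IsPullback.of_map (Over.forget S) (Over.OverMorphism.ext pullback.condition)
      (IsPullback.of_hasPullback bW.left (W.left.affineCover.f i))
  have sqWi := IsPullback.of_hasPullback aW c
  let κi : pullback aW c ⟶ Bi := sqd.lift (pullback.fst aW c ≫ κ) (pullback.snd aW c) (by
    rw [Category.assoc, h2, pullback.condition])
  have hinj' : Function.Injective κi.left.appTop :=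
    injective_appTop_bc hfU hinj (sqd.paste_horiz sqB) (sqWi.paste_horiz sqW)
      (by rw [← Category.assoc, sqd.lift_fst, Category.assoc, h1, Category.assoc]) (sqd.lift_snd _ _ _)
  change d.left ≫ h.left = d.left ≫ h'.left
  refine ext_of_isAffine ?_
  ext x
  refine hinj' ?_
  have e' : κi ≫ d ≫ h = κi ≫ d ≫ h' := by
    rw [← Category.assoc, ← Category.assoc, sqd.lift_fst, Category.assoc, Category.assoc, e]
  have := congrArg (fun φ : pullback aW c ⟶ N => φ.left.appTop x) e'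
  simpa using this

/-- Descent of an affine image. -/
theorem exists_quotient {X Y : Sp S} (hX : IsAlgSpace X) {f : Y ⟶ X} {U U' N : Over S}
    {p : (yon S).obj U ⟶ X} (hpe : RepWith @Etale p) (hps : RepWith @Surjective p)
    {pf : (yon S).obj U' ⟶ Y} {π : U' ⟶ U} (sqf : IsPullback pf ((yon S).map π) f p)
    {ν : N ⟶ U} {fU : U' ⟶ N} (hfU : fU ≫ ν = π)
    [IsAffine N.left] [IsAffine U'.left] [IsAffineHom ν.left] (hinj : Function.Injective fU.left.appTop)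
    (hex : ∀ ⦃R : Over S⦄ (s t : R ⟶ U), Etale s.left → (yon S).map t ≫ p = (yon S).map s ≫ p →
      IsPullback ((yon S).map t) ((yon S).map s) p p →
      ∀ ⦃R' B : Over S⦄ (a b : R' ⟶ U') (r : R' ⟶ R), IsPullback a r π s → b ≫ π = r ≫ t →
        (yon S).map b ≫ pf = (yon S).map a ≫ pf → ∀ (bN : B ⟶ N) (bR : B ⟶ R), IsPullback bN bR ν s →
          ∀ κ : R' ⟶ B, κ ≫ bN = a ≫ fU → κ ≫ bR = r → ∃ t₀ : B ⟶ N, t₀ ≫ ν = bR ≫ t ∧ κ ≫ t₀ = b ≫ fU) :
    ∃ (Q : Sp S) (q : (yon S).obj N ⟶ Q) (νQ : Q ⟶ X) (f' : Y ⟶ Q), IsAlgSpace Q ∧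
      IsPullback q ((yon S).map ν) νQ p ∧ f' ≫ νQ = f ∧ IsPullback pf ((yon S).map fU) f' q := by
  obtain ⟨R, s, t', sqR⟩ := hX.representable_from_yon p p
  obtain ⟨t, rfl⟩ := (yon S).map_surjective t'
  haveI : Etale s.left := hpe.property p _ s sqR
  haveI : Etale t.left := hpe.property p _ t sqR.flip
  have hinjR : ∀ {T : Over S} (r r' : T ⟶ R), r ≫ t = r' ≫ t → r ≫ s = r' ≫ s → r = r' := fun r r' h₁ h₂ =>
    (yon S).map_injective (sqR.hom_ext (by rw [← Functor.map_comp, ← Functor.map_comp, h₁])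
      (by rw [← Functor.map_comp, ← Functor.map_comp, h₂]))
  have hRex : ∀ {T : Over S} (a b : T ⟶ U), (yon S).map a ≫ p = (yon S).map b ≫ p →
      ∃ r : T ⟶ R, r ≫ t = a ∧ r ≫ s = b := fun {T} a b hab => by
    obtain ⟨r, hr⟩ := (yon S).map_surjective (sqR.lift _ _ hab)
    exact ⟨r, (yon S).map_injective (by rw [Functor.map_comp, hr, sqR.lift_fst]),
      (yon S).map_injective (by rw [Functor.map_comp, hr, sqR.lift_snd])⟩
  have hU'ext : ∀ {T : Over S} (x y : T ⟶ U'), (yon S).map x ≫ pf = (yon S).map y ≫ pf → x ≫ π = y ≫ π → x = y :=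
    fun x y h₁ h₂ => (yon S).map_injective (sqf.hom_ext h₁ (by rw [← Functor.map_comp, ← Functor.map_comp, h₂]))
  let R' : Over S := pullback π s
  let a : R' ⟶ U' := pullback.fst π s
  let r : R' ⟶ R := pullback.snd π s
  have sqa : IsPullback a r π s := IsPullback.of_hasPullback π s
  obtain ⟨b, hbY, hbπ⟩ : ∃ b : R' ⟶ U', (yon S).map b ≫ pf = (yon S).map a ≫ pf ∧ b ≫ π = r ≫ t := by
    obtain ⟨b, hb⟩ := (yon S).map_surjective (sqf.lift ((yon S).map a ≫ pf) ((yon S).map (r ≫ t)) (by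
      rw [Category.assoc, sqf.w, ← Functor.map_comp_assoc, sqa.w, Functor.map_comp, Functor.map_comp,
        Category.assoc, Category.assoc, sqR.w]))
    exact ⟨b, by rw [hb, sqf.lift_fst], (yon S).map_injective (by rw [Functor.map_comp, hb, sqf.lift_snd])⟩
  let s' : pullback ν s ⟶ N := pullback.fst ν s
  let r₀ : pullback ν s ⟶ R := pullback.snd ν s
  have sqs : IsPullback s' r₀ ν s := IsPullback.of_hasPullback ν s
  obtain ⟨κ, hκ1, hκ2⟩ : ∃ κ : R' ⟶ pullback ν s, κ ≫ s' = a ≫ fU ∧ κ ≫ r₀ = r :=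
    ⟨sqs.lift (a ≫ fU) r (by rw [Category.assoc, hfU, sqa.w]), sqs.lift_fst _ _ _, sqs.lift_snd _ _ _⟩
  obtain ⟨t₀, ht₀, hκt⟩ := hex s t ‹_› sqR.w sqR a b r sqa hbπ hbY s' r₀ sqs κ hκ1 hκ2
  haveI : Etale s'.left := MorphismProperty.of_isPullback (P := @Etale) (sqs.map (Over.forget S)).flip ‹_›
  have hinjN : ∀ (T : Over S) (x y : T ⟶ pullback ν s), x ≫ t₀ = y ≫ t₀ → x ≫ s' = y ≫ s' → x = y := by
    intro T x y h₁ h₂
    refine sqs.hom_ext h₂ (hinjR _ _ ?_ ?_)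
    · rw [Category.assoc, Category.assoc, ← ht₀, reassoc_of% h₁]
    · rw [Category.assoc, Category.assoc, ← sqs.w, reassoc_of% h₂]
  obtain ⟨e, het, hes⟩ := hRex (𝟙 U) (𝟙 U) rfl
  obtain ⟨sw, hswt, hsws⟩ := hRex s t (by rw [sqR.w])
  obtain ⟨e', he's, he'r⟩ : ∃ e' : N ⟶ pullback ν s, e' ≫ s' = 𝟙 N ∧ e' ≫ r₀ = ν ≫ e :=
    ⟨sqs.lift (𝟙 N) (ν ≫ e) (by rw [Category.assoc, hes, Category.id_comp, Category.comp_id]),
      sqs.lift_fst _ _ _, sqs.lift_snd _ _ _⟩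
  have he't : e' ≫ t₀ = 𝟙 N := by
    refine eq_of_comp_eq hfU hinj (inferInstanceAs (Flat (𝟙 U.left)))
      (IsPullback.of_horiz_isIso (fst := 𝟙 N) (snd := ν) (g := 𝟙 U) ⟨by simp⟩)
      (IsPullback.of_horiz_isIso (fst := 𝟙 U') (snd := π) (g := 𝟙 U) ⟨by simp⟩) (κ := fU) (by simp) hfU ?_
    obtain ⟨eR, heR1, heR2⟩ : ∃ eR : U' ⟶ R', eR ≫ a = 𝟙 U' ∧ eR ≫ r = π ≫ e :=
      ⟨sqa.lift (𝟙 U') (π ≫ e) (by rw [Category.assoc, hes, Category.id_comp, Category.comp_id]),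
        sqa.lift_fst _ _ _, sqa.lift_snd _ _ _⟩
    have h1 : fU ≫ e' = eR ≫ κ := sqs.hom_ext
      (by rw [Category.assoc, Category.assoc, he's, hκ1, reassoc_of% heR1, Category.comp_id])
      (by rw [Category.assoc, Category.assoc, he'r, hκ2, heR2, reassoc_of% hfU])
    have h2 : eR ≫ b = 𝟙 U' := hU'ext _ _
      (by rw [Functor.map_comp_assoc, hbY, ← Functor.map_comp_assoc, heR1])
      (by rw [Category.assoc, hbπ, reassoc_of% heR2, het, Category.comp_id, Category.id_comp])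
    rw [reassoc_of% h1, hκt, reassoc_of% h2, Category.comp_id]
  obtain ⟨σ, hσs, hσr⟩ : ∃ σ : pullback ν s ⟶ pullback ν s, σ ≫ s' = t₀ ∧ σ ≫ r₀ = r₀ ≫ sw :=
    ⟨sqs.lift t₀ (r₀ ≫ sw) (by rw [Category.assoc, hsws, ht₀]), sqs.lift_fst _ _ _, sqs.lift_snd _ _ _⟩
  have hσt : σ ≫ t₀ = s' := by
    refine eq_of_comp_eq hfU hinj (inferInstanceAs (Flat s.left)) sqs sqa hκ1 hκ2 ?_
    obtain ⟨σR, hσR1, hσR2⟩ : ∃ σR : R' ⟶ R', σR ≫ a = b ∧ σR ≫ r = r ≫ sw :=
      ⟨sqa.lift b (r ≫ sw) (by rw [Category.assoc, hsws, hbπ]), sqa.lift_fst _ _ _, sqa.lift_snd _ _ _⟩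
    have h1 : κ ≫ σ = σR ≫ κ := sqs.hom_ext
      (by rw [Category.assoc, Category.assoc, hσs, hκt, hκ1, reassoc_of% hσR1])
      (by rw [Category.assoc, Category.assoc, hσr, hκ2, reassoc_of% hκ2, hσR2])
    have h2 : σR ≫ b = a := hU'ext _ _
      (by rw [Functor.map_comp_assoc, hbY, ← Functor.map_comp_assoc, hσR1, hbY])
      (by rw [Category.assoc, hbπ, reassoc_of% hσR2, hswt, sqa.w])
    rw [reassoc_of% h1, hκt, reassoc_of% h2, hκ1]
  have htrans : ∀ (T : Over S) (x₁ x₂ : T ⟶ pullback ν s), x₂ ≫ s' = x₁ ≫ t₀ →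
      ∃ x₃, x₃ ≫ s' = x₁ ≫ s' ∧ x₃ ≫ t₀ = x₂ ≫ t₀ := by
    intro T x₁ x₂ h12
    let p₁ : pullback t s ⟶ R := pullback.fst t s
    let p₂ : pullback t s ⟶ R := pullback.snd t s
    haveI : Etale p₁.left :=
      MorphismProperty.of_isPullback (P := @Etale) ((IsPullback.of_hasPullback t s).map (Over.forget S)).flip ‹_›
    haveI hfl : Flat (p₁ ≫ s).left := inferInstanceAs (Flat (p₁.left ≫ s.left))
    obtain ⟨μ, hμt, hμs⟩ := hRex (p₂ ≫ t) (p₁ ≫ s) (by
      have hc : p₁ ≫ t = p₂ ≫ s := pullback.condition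
      rw [Functor.map_comp, Functor.map_comp, Category.assoc, Category.assoc, sqR.w, ← Functor.map_comp_assoc,
        ← hc, Functor.map_comp, Category.assoc, sqR.w])
    let bN : pullback ν (p₁ ≫ s) ⟶ N := pullback.fst ν (p₁ ≫ s)
    let bW : pullback ν (p₁ ≫ s) ⟶ pullback t s := pullback.snd ν (p₁ ≫ s)
    have sqB : IsPullback bN bW ν (p₁ ≫ s) := IsPullback.of_hasPullback _ _
    let aU : pullback π (p₁ ≫ s) ⟶ U' := pullback.fst π (p₁ ≫ s)
    let aW : pullback π (p₁ ≫ s) ⟶ pullback t s := pullback.snd π (p₁ ≫ s)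
    have sqW : IsPullback aU aW π (p₁ ≫ s) := IsPullback.of_hasPullback _ _
    obtain ⟨κW, hκW1, hκW2⟩ : ∃ κW, κW ≫ bN = aU ≫ fU ∧ κW ≫ bW = aW :=
      ⟨sqB.lift (aU ≫ fU) aW (by rw [Category.assoc, hfU, sqW.w]), sqB.lift_fst _ _ _, sqB.lift_snd _ _ _⟩
    obtain ⟨α, hαs, hαr⟩ : ∃ α, α ≫ s' = bN ∧ α ≫ r₀ = bW ≫ p₁ :=
      ⟨sqs.lift bN (bW ≫ p₁) (by rw [Category.assoc]; exact sqB.w), sqs.lift_fst _ _ _, sqs.lift_snd _ _ _⟩
    obtain ⟨β, hβs, hβr⟩ : ∃ β, β ≫ s' = α ≫ t₀ ∧ β ≫ r₀ = bW ≫ p₂ :=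
      ⟨sqs.lift (α ≫ t₀) (bW ≫ p₂) (by
        rw [Category.assoc, ht₀, reassoc_of% hαr, Category.assoc, pullback.condition]),
        sqs.lift_fst _ _ _, sqs.lift_snd _ _ _⟩
    obtain ⟨γ, hγs, hγr⟩ : ∃ γ, γ ≫ s' = bN ∧ γ ≫ r₀ = bW ≫ μ :=
      ⟨sqs.lift bN (bW ≫ μ) (by rw [Category.assoc, hμs]; exact sqB.w), sqs.lift_fst _ _ _, sqs.lift_snd _ _ _⟩
    have key : γ ≫ t₀ = β ≫ t₀ := by
      refine eq_of_comp_eq hfU hinj hfl sqB sqW hκW1 hκW2 ?_
      obtain ⟨α', hα'a, hα'r⟩ : ∃ α', α' ≫ a = aU ∧ α' ≫ r = aW ≫ p₁ :=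
        ⟨sqa.lift aU (aW ≫ p₁) (by rw [Category.assoc]; exact sqW.w), sqa.lift_fst _ _ _, sqa.lift_snd _ _ _⟩
      obtain ⟨β', hβ'a, hβ'r⟩ : ∃ β', β' ≫ a = α' ≫ b ∧ β' ≫ r = aW ≫ p₂ :=
        ⟨sqa.lift (α' ≫ b) (aW ≫ p₂) (by
          rw [Category.assoc, hbπ, reassoc_of% hα'r, Category.assoc, pullback.condition]),
          sqa.lift_fst _ _ _, sqa.lift_snd _ _ _⟩
      obtain ⟨γ', hγ'a, hγ'r⟩ : ∃ γ', γ' ≫ a = aU ∧ γ' ≫ r = aW ≫ μ :=
        ⟨sqa.lift aU (aW ≫ μ) (by rw [Category.assoc, hμs]; exact sqW.w), sqa.lift_fst _ _ _, sqa.lift_snd _ _ _⟩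
      have h1 : κW ≫ α = α' ≫ κ := sqs.hom_ext
        (by rw [Category.assoc, Category.assoc, hαs, hκW1, hκ1, reassoc_of% hα'a])
        (by rw [Category.assoc, Category.assoc, hαr, reassoc_of% hκW2, hκ2, hα'r])
      have h2 : κW ≫ β = β' ≫ κ := sqs.hom_ext
        (by rw [Category.assoc, Category.assoc, hβs, reassoc_of% h1, hκt, hκ1, reassoc_of% hβ'a])
        (by rw [Category.assoc, Category.assoc, hβr, reassoc_of% hκW2, hκ2, hβ'r])
      have h3 : κW ≫ γ = γ' ≫ κ := sqs.hom_ext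
        (by rw [Category.assoc, Category.assoc, hγs, hκW1, hκ1, reassoc_of% hγ'a])
        (by rw [Category.assoc, Category.assoc, hγr, reassoc_of% hκW2, hκ2, hγ'r])
      have h4 : γ' ≫ b = β' ≫ b := hU'ext _ _
        (by rw [Functor.map_comp_assoc, Functor.map_comp_assoc, hbY, ← Functor.map_comp_assoc,
          ← Functor.map_comp_assoc, hγ'a, hβ'a, Functor.map_comp_assoc, hbY, ← Functor.map_comp_assoc, hα'a])
        (by rw [Category.assoc, Category.assoc, hbπ, reassoc_of% hγ'r, hμt, reassoc_of% hβ'r])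
      rw [reassoc_of% h3, reassoc_of% h2, hκt, reassoc_of% h4]
    obtain ⟨z, hz1, hz2⟩ : ∃ z : T ⟶ pullback t s, z ≫ p₁ = x₁ ≫ r₀ ∧ z ≫ p₂ = x₂ ≫ r₀ :=
      ⟨pullback.lift (x₁ ≫ r₀) (x₂ ≫ r₀) (by
        rw [Category.assoc, Category.assoc, ← ht₀, ← sqs.w, reassoc_of% h12]),
        pullback.lift_fst _ _ _, pullback.lift_snd _ _ _⟩
    obtain ⟨c, hc1, hc2⟩ : ∃ c, c ≫ bN = x₁ ≫ s' ∧ c ≫ bW = z :=
      ⟨sqB.lift (x₁ ≫ s') z (by rw [reassoc_of% hz1, Category.assoc, sqs.w]),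
        sqB.lift_fst _ _ _, sqB.lift_snd _ _ _⟩
    have hcα : c ≫ α = x₁ := sqs.hom_ext (by rw [Category.assoc, hαs, hc1])
      (by rw [Category.assoc, hαr, reassoc_of% hc2, hz1])
    have hcβ : c ≫ β = x₂ := sqs.hom_ext (by rw [Category.assoc, hβs, reassoc_of% hcα, h12])
      (by rw [Category.assoc, hβr, reassoc_of% hc2, hz2])
    exact ⟨c ≫ γ, by rw [Category.assoc, hγs, hc1], by rw [Category.assoc, key, reassoc_of% hcβ]⟩
  have hrel : IsEqvRel s' t₀ := ⟨hinjN, fun T => ⟨fun x => ⟨x ≫ e', by rw [Category.assoc, he't, Category.comp_id],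
      by rw [Category.assoc, he's, Category.comp_id]⟩,
    fun {x y} ⟨z, h1, h2⟩ => ⟨z ≫ σ, by rw [Category.assoc, hσt, h2], by rw [Category.assoc, hσs, h1]⟩,
    fun {x y w} ⟨z, h1, h2⟩ ⟨z', h1', h2'⟩ => by
      obtain ⟨z₃, h3, h3'⟩ := htrans T z' z (h2.trans h1'.symm)
      exact ⟨z₃, by rw [h3', h1], by rw [h3, h2']⟩⟩⟩
  let Q := QuotSh.quot Scheme.fppfPrecoverage s' t₀
  let q : (yon S).obj N ⟶ Q := quotMap s' t₀
  have hQ : IsAlgSpace Q := isAlgSpace_quot_fppf hrel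
  have hqcov : Covers (fun _ : PUnit.{u + 1} => q) := covers_fppf (repWith_fppf_quotMap hrel)
  obtain ⟨sqQ, -⟩ := isPullback_quotMap hrel
  have hqrel : ∀ {T : Over S} (x y : T ⟶ N), (yon S).map x ≫ q = (yon S).map y ≫ q →
      ∃ z : T ⟶ pullback ν s, z ≫ t₀ = x ∧ z ≫ s' = y := fun {T} x y hxy => by
    obtain ⟨z, hz⟩ := (yon S).map_surjective (sqQ.lift _ _ hxy)
    exact ⟨z, (yon S).map_injective (by rw [Functor.map_comp, hz, sqQ.lift_fst]),
      (yon S).map_injective (by rw [Functor.map_comp, hz, sqQ.lift_snd])⟩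
  obtain ⟨νQ, hνQ', -⟩ := hqcov.existsUnique_glue (fun _ => (yon S).map ν ≫ p) fun _ _ V x y hxy => by
    obtain ⟨x₀, rfl⟩ := (yon S).map_surjective x
    obtain ⟨y₀, rfl⟩ := (yon S).map_surjective y
    obtain ⟨z, rfl, rfl⟩ := hqrel x₀ y₀ hxy
    rw [← Functor.map_comp_assoc, ← Functor.map_comp_assoc, Category.assoc, Category.assoc, ht₀, sqs.w,
      ← Category.assoc, ← Category.assoc, Functor.map_comp, Functor.map_comp _ (z ≫ r₀) s, Category.assoc,
      Category.assoc, sqR.w]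
  have hνQ : q ≫ νQ = (yon S).map ν ≫ p := hνQ' ⟨⟩
  have hYcov : Covers (fun _ : PUnit.{u + 1} => pf) := (covers_single hpe hps).pullback fun _ => sqf
  obtain ⟨f', hf'', -⟩ := hYcov.existsUnique_glue (fun _ => (yon S).map fU ≫ q) fun _ _ V x y hxy => by
    obtain ⟨x₀, rfl⟩ := (yon S).map_surjective x
    obtain ⟨y₀, rfl⟩ := (yon S).map_surjective y
    obtain ⟨ρ, hρt, hρs⟩ := hRex (y₀ ≫ π) (x₀ ≫ π) (by
      rw [Functor.map_comp, Functor.map_comp, Category.assoc, Category.assoc, ← sqf.w, reassoc_of% hxy])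
    obtain ⟨ρ', hρ'a, hρ'r⟩ : ∃ ρ', ρ' ≫ a = x₀ ∧ ρ' ≫ r = ρ :=
      ⟨sqa.lift x₀ ρ hρs.symm, sqa.lift_fst _ _ _, sqa.lift_snd _ _ _⟩
    have hb : ρ' ≫ b = y₀ := hU'ext _ _
      (by rw [Functor.map_comp_assoc, hbY, ← Functor.map_comp_assoc, hρ'a, hxy])
      (by rw [Category.assoc, hbπ, reassoc_of% hρ'r, hρt])
    have h5 : x₀ ≫ fU = (ρ' ≫ κ) ≫ s' := by rw [Category.assoc, hκ1, reassoc_of% hρ'a]
    have h6 : y₀ ≫ fU = (ρ' ≫ κ) ≫ t₀ := by rw [Category.assoc, hκt, reassoc_of% hb]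
    rw [← Functor.map_comp_assoc, ← Functor.map_comp_assoc, h5, h6, Functor.map_comp, Functor.map_comp _ (ρ' ≫ κ) t₀,
      Category.assoc, Category.assoc, sqQ.w]
  have hf' : pf ≫ f' = (yon S).map fU ≫ q := hf'' ⟨⟩
  have hff : f' ≫ νQ = f := hYcov.hom_ext fun _ => by
    rw [reassoc_of% hf', hνQ, ← Functor.map_comp_assoc, hfU, sqf.w]
  let L : (yon S).obj N ⟶ pullback νQ p := pullback.lift q ((yon S).map ν) hνQ
  haveI : Mono L := mono_of_yon fun T x y hxy => by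
    obtain ⟨x₀, rfl⟩ := (yon S).map_surjective x
    obtain ⟨y₀, rfl⟩ := (yon S).map_surjective y
    have h1 : (yon S).map x₀ ≫ q = (yon S).map y₀ ≫ q := by
      simpa [L, pullback.lift_fst] using hxy =≫ pullback.fst νQ p
    have h2 : x₀ ≫ ν = y₀ ≫ ν := (yon S).map_injective (by
      simpa [L, pullback.lift_snd] using hxy =≫ pullback.snd νQ p)
    obtain ⟨z, hzx, hzy⟩ := hqrel x₀ y₀ h1
    have hze : z ≫ r₀ = (y₀ ≫ ν) ≫ e := hinjR _ _
      (by rw [Category.assoc, Category.assoc, ← ht₀, reassoc_of% hzx, het, Category.comp_id, h2])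
      (by rw [Category.assoc, Category.assoc, ← sqs.w, reassoc_of% hzy, hes, Category.comp_id])
    have hz : z = y₀ ≫ e' := sqs.hom_ext (by rw [Category.assoc, he's, hzy, Category.comp_id])
      (by rw [hze, Category.assoc, Category.assoc, he'r])
    rw [← hzx, hz, Category.assoc, he't, Category.comp_id]
  haveI : IsIso L := isIso_of_mono_of_local_lifts L fun T y => by
    obtain ⟨V, v, k', sq⟩ := (repWith_fppf_quotMap hrel).rep (y ≫ pullback.fst νQ p)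
    obtain ⟨⟨hs, hfl⟩, hfp⟩ := (repWith_fppf_quotMap hrel).property _ k' v sq
    refine ⟨PUnit, fun _ => V, fun _ => v, ofArrows_mem_J _ (fun _ => hfl) (fun _ => hfp)
      (fun x => ⟨⟨⟩, hs.surj x⟩), fun _ => ?_⟩
    obtain ⟨n, rfl⟩ := (yon S).map_surjective k'
    obtain ⟨c, hc⟩ := (yon S).map_surjective (y ≫ pullback.snd νQ p)
    have hw : (yon S).map n ≫ q = (yon S).map v ≫ y ≫ pullback.fst νQ p := sq.w
    obtain ⟨ρ, hρt, hρs⟩ := hRex (v ≫ c) (n ≫ ν) (by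
      rw [Functor.map_comp, Functor.map_comp, Category.assoc, Category.assoc, hc, Category.assoc,
        ← pullback.condition, ← hνQ, reassoc_of% hw])
    obtain ⟨ρ', hρ's, hρ'r⟩ : ∃ ρ', ρ' ≫ s' = n ∧ ρ' ≫ r₀ = ρ :=
      ⟨sqs.lift n ρ hρs.symm, sqs.lift_fst _ _ _, sqs.lift_snd _ _ _⟩
    refine ⟨(yon S).map (ρ' ≫ t₀), pullback.hom_ext ?_ ?_⟩
    · rw [Category.assoc, pullback.lift_fst, Functor.map_comp, Category.assoc, sqQ.w,
        ← Functor.map_comp_assoc, hρ's, hw, Category.assoc]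
    · rw [Category.assoc, pullback.lift_snd, ← Functor.map_comp, Category.assoc, ht₀, reassoc_of% hρ'r,
        hρt, Functor.map_comp, hc, Category.assoc]
  have sqN : IsPullback q ((yon S).map ν) νQ p :=
    IsPullback.of_iso_pullback ⟨hνQ⟩ (asIso L) (pullback.lift_fst _ _ _) (pullback.lift_snd _ _ _)
  refine ⟨Q, q, νQ, f', hQ, sqN, hff, IsPullback.of_bot ?_ hf' sqN⟩
  rw [← Functor.map_comp, hfU, hff]
  exact sqf

end Groth.Agent.H13AlgSp.ZMT
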